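import Groth.Agent.S11317
import Groth.Agent.Models.H57.GeoInt
import Groth.Agent.Picfga.H0
import Groth.Agent.Pic13.H703.KPoints
import Groth.Agent.Sga67.TensorOps
import Groth.Agent.Dual.H375.ExtRestr

/-!
# The outer Hodge numbers are determined by `h^(i,0)` and `h^(0,i)`
-/

set_option autoImplicit false
universe u

open CategoryTheory CategoryTheory.Limits AlgebraicGeometry

namespace K41.HodgeOuter

open Groth.Agent

variable (k : Type u) [Field k] {X : Scheme.{u}} [X.Over (Spec (CommRingCat.of k))]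

/-- Exterior powers of `Ω` exist. -/
theorem exists_isExtPow (n : ℕ) [IsProper (X ↘ Spec (CommRingCat.of k))]
    [SmoothOfRelativeDimension n (X ↘ Spec (CommRingCat.of k))] (p : ℕ) :
    ∃ E : X.Modules, ExtPow.IsExtPow p (Omega.sheaf (X ↘ Spec (CommRingCat.of k))) E := by
  have hΩ : FlatMod.IsFinLocFreeOfRank n (Omega.sheaf (X ↘ Spec (CommRingCat.of k))) :=
    Dual.H339.OmegaRank.isFinLocFreeOfRank_omega n _
  obtain ⟨W, -, hW⟩ := Krr.H495.ExtExist.exists_isExtPow p _ (Ega2.QCohLocal.isFinLocFree_of_rank hΩ)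
  exact ⟨W, hW⟩

theorem finrank_congr_ext {p q : ℕ} {E E' : X.Modules}
    (hE : ExtPow.IsExtPow p (Omega.sheaf (X ↘ Spec (CommRingCat.of k))) E)
    (hE' : ExtPow.IsExtPow p (Omega.sheaf (X ↘ Spec (CommRingCat.of k))) E') :
    Module.finrank k (Coh.HH X E q) = Module.finrank k (Coh.HH X E' q) := by
  obtain ⟨e⟩ := Dual.H375.ExtRestr.nonempty_iso (Iso.refl _) hE hE'
  exact CurvesC.DegIso.finrank_congr k e q

theorem h0_eq_one [IsAlgClosed k] [IsIntegral X] [IsProper (X ↘ Spec (CommRingCat.of k))] :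
    Module.finrank k (Coh.HH X (Coh.structureModule X) 0) = 1 := by
  obtain ⟨σ, hσ⟩ := Pic13.H703.KPoints.exists_section (X ↘ Spec (CommRingCat.of k))
  refine Models.H57.GeoInt.finrank_H0 k X ?_
  exact (ConcreteCategory.isIso_iff_bijective _).2 (Picfga.H0.bijective_appTop (X ↘ Spec (CommRingCat.of k)) σ hσ)

omit [X.Over (Spec (CommRingCat.of k))] in
theorem isProper_of_closed [X.Over (Spec (CommRingCat.of k))] (N : ℕ)
    (ι : X ⟶ CohB1.ProjSpace N k) [IsClosedImmersion ι]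
    (hι : ι ≫ CohB1.ProjSpace.toSpec N k = X ↘ Spec (CommRingCat.of k)) : IsProper (X ↘ Spec (CommRingCat.of k)) := by
  have hP : IsProper (CohB1.ProjSpace.toSpec N k) := Ega3B.ProjProper.isProper_toSpec N k
  rw [← hι]
  infer_instance

/-- The outer Hodge numbers modulo `m`. -/
theorem outer [IsAlgClosed k] [IsIntegral X] (n N : ℕ)
    [SmoothOfRelativeDimension n (X ↘ Spec (CommRingCat.of k))]
    (ι : X ⟶ CohB1.ProjSpace N k) [IsClosedImmersion ι] (hι : ι ≫ CohB1.ProjSpace.toSpec N k = X ↘ Spec (CommRingCat.of k))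
    (m : ℕ) (a : ℕ → ℕ → ℤ) (h00 : a 0 0 = 1)
    (ha : ∀ p q : ℕ, p ≤ n → q ≤ n → a p q = a (n - p) (n - q))
    (h1 : ∀ i : ℕ, 1 ≤ i → i ≤ n → ∀ E : X.Modules, ExtPow.IsExtPow i (Omega.sheaf (X ↘ Spec (CommRingCat.of k))) E →
        ((Module.finrank k (Coh.HH X E 0) : ℤ) : ZMod m) = (a i 0 : ZMod m))
    (h2 : ∀ i : ℕ, 1 ≤ i → i ≤ n →
        ((Module.finrank k (Coh.HH X (Coh.structureModule X) i) : ℤ) : ZMod m) = (a 0 i : ZMod m))
    (p q : ℕ) (hp : p ≤ n) (hq : q ≤ n) (hpq : p = 0 ∨ q = 0 ∨ p = n ∨ q = n) {E : X.Modules}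
    (hE : ExtPow.IsExtPow p (Omega.sheaf (X ↘ Spec (CommRingCat.of k))) E) :
    ((Module.finrank k (Coh.HH X E q) : ℤ) : ZMod m) = (a p q : ZMod m) := by
  have hprop := isProper_of_closed k N ι hι
  have hO : ExtPow.IsExtPow 0 (Omega.sheaf (X ↘ Spec (CommRingCat.of k))) (Coh.structureModule X) :=
    Sga67.TensorOps.isExtPow_zero _
  -- `p = 0`
  have H0 : ∀ q : ℕ, q ≤ n → ∀ E : X.Modules,
      ExtPow.IsExtPow 0 (Omega.sheaf (X ↘ Spec (CommRingCat.of k))) E →
      ((Module.finrank k (Coh.HH X E q) : ℤ) : ZMod m) = (a 0 q : ZMod m) := by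
    intro q hq E hE
    rw [finrank_congr_ext k hE hO]
    rcases Nat.eq_zero_or_pos q with rfl | hq'
    · rw [h0_eq_one k, h00]; simp
    · exact h2 q hq' hq
  have H1 : ∀ p : ℕ, p ≤ n → ∀ E : X.Modules,
      ExtPow.IsExtPow p (Omega.sheaf (X ↘ Spec (CommRingCat.of k))) E →
      ((Module.finrank k (Coh.HH X E 0) : ℤ) : ZMod m) = (a p 0 : ZMod m) := by
    intro p hp E hE
    rcases Nat.eq_zero_or_pos p with rfl | hp'
    · exact H0 0 (Nat.zero_le _) E hE
    · exact h1 p hp' hp E hE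
  rcases hpq with rfl | rfl | rfl | rfl
  · exact H0 q hq E hE
  · exact H1 p hp E hE
  · rw [S11317.result k p N X ι hι p q le_rfl hq E (Coh.structureModule X) hE (by rw [Nat.sub_self]; exact hO),
      H0 (p - q) (by omega) _ hO, ha p q le_rfl hq, Nat.sub_self]
  · obtain ⟨E', hE'⟩ := exists_isExtPow k (X := X) q (q - p)
    rw [S11317.result k q N X ι hι p q hp le_rfl E E' hE hE', Nat.sub_self,
      H1 (q - p) (by omega) _ hE', ha p q hp le_rfl, Nat.sub_self]

end K41.HodgeOuter
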